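import Groth.Agent.HopfShrinkLib.Transfer
import Groth.Agent.BorelLib.RedUnipMax
import Groth.Agent.S7956
import Groth.Agent.LieKolchinLib.DimOne
import Groth.Agent.HopfFFLib.Stab.Subspace
import Groth.Agent.ConnBC.Main
import Groth.Prelude

/-!
# Connected groups all of whose points are semisimple are tori
-/

set_option autoImplicit false
set_option maxHeartbeats 4000000
set_option synthInstance.maxHeartbeats 400000
set_option backward.isDefEq.respectTransparency false
universe u v
open CategoryTheory MonoidalCategory CartesianMonoidalCategory MonObj GrpObj AlgebraicGeometry WithConv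
open scoped TensorProduct

attribute [-instance] CategoryTheory.Hom.commGroup

noncomputable section

namespace HopfShrinkLib

open Groth.Agent Groth.Agent.BorelLib
open CoactBr (sp)
attribute [local instance] BorelLib.pTop BorelLib.pTopTensor

section Same

variable {k : Type u} [Field k] [IsAlgClosed k] {A : Type u} [CommRing A] [HopfAlgebra k A] [Algebra.FiniteType k A]
  [_root_.IsReduced A]

/-- Over an algebraically closed field, a connected group without nontrivial unipotent points is commutative. -/
theorem mul_comm_of_no_uni [ConnectedSpace (sp k A).left] (h : ∀ u : Pt k A, IsUni u → u = 1) (x y : Pt k A) :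
    x * y = y * x := by
  let v : sp k A ≅ sp k A := Iso.refl _
  haveI : IsMonHom v.hom := inferInstanceAs (IsMonHom (𝟙 (sp k A)))
  have hconn := isPreconnected_univ_of_connected v
  have hKc : IsClosed ((⊤ : Subgroup (Pt k A)) : Set (Pt k A)) := by rw [Subgroup.coe_top]; exact isClosed_univ
  have hK : _root_.IsPreconnected ((⊤ : Subgroup (Pt k A)) : Set (Pt k A)) := by rwa [Subgroup.coe_top]
  obtain ⟨B, hB, -, -⟩ := IsBor.exists_conj_universal hKc hK
  have htor : IsTor B := isTor_of_no_uni hB.closed hB.conn hB.sol fun J _ _ _ hJu =>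
    (Subgroup.eq_bot_iff_forall J).2 fun w hw => h w (hJu w hw)
  have hcen : ∀ b ∈ B, ∀ x : Pt k A, b * x = x * b := fun b hb x => (ptEquiv v).injective (by
    rw [map_mul, map_mul]
    refine comm_of_comm_bor v (ptEquiv v b) (ptEquiv v x) hB fun c hc => ?_
    rw [toUnit_unique (toUnit (𝟙_ _)) (𝟙 _), Category.id_comp, ← map_mul, ← map_mul, htor.comm b hb c hc])
  have hBmax : IsMaxTor ⊤ B := ⟨le_top, htor, fun T _ hT hle => hB.maximal T le_top hT.closed hT.conn hT.isSol hle⟩
  have hcart : cart ⊤ B = ⊤ := le_antisymm le_top (le_neut hK fun x _ => ⟨trivial,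
    Subgroup.mem_centralizer_iff.2 fun b hb => hcen b hb x⟩)
  have htop : (⊤ : Subgroup (Pt k A)) = B := hB.maximal ⊤ le_rfl hKc hK (hcart ▸ hBmax.isSol_cart hKc) le_top
  exact hcen x (htop ▸ trivial) y

open scoped ComodLib in
theorem eq_one_of_isUni {u : Pt k A} (hu : IsUni u)
    (hss : ∀ W : Submodule k A, Module.Finite k W → ∀ hW : ∀ w ∈ W, LieKolchinLib.rep A u w ∈ W,
      (∀ g : Pt k A, ∀ w ∈ W, LieKolchinLib.rep A g w ∈ W) →
      Module.End.IsSemisimple ((LieKolchinLib.rep A u).restrict hW)) : u = 1 := by
  obtain ⟨F, hF⟩ := Algebra.FiniteType.out (R := k) (A := A)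
  obtain ⟨W, hW, hFW, hsub⟩ := HopfFF.exists_finite_subcomod (k := k) F
  letI := HopfFF.selfComod (k := k) (A := A)
  haveI := hW
  let r : RegRep (⊤ : Subgroup (Pt k A)) A :=
    { ρ := fun g => LieKolchinLib.rep A g
      map_one := map_one _
      map_mul := fun g _ h _ => map_mul _ g h
      reg := fun φ v => ⟨ComodLib.coeff (A := A) φ v, fun g => LieKolchinLib.apply_rep φ g v⟩ }
  have hs : ∀ g : Pt k A, ∀ w ∈ W, LieKolchinLib.rep A g w ∈ W := fun g w hw => by
    obtain ⟨t, ht⟩ := hsub w hw
    show ComodLib.slice (LieKolchinLib.fn g).ofConv (CoalgebraStruct.comul (R := k) w) ∈ W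
    rw [← ht]
    clear ht
    induction t using TensorProduct.induction_on with
    | zero => simp
    | add a b ha hb => rw [map_add, map_add]; exact W.add_mem ha hb
    | tmul a b => simpa using W.smul_mem _ a.2
  obtain ⟨r₁, hr₁⟩ := r.exists_sub (K := ⊤) (W := W) (fun g _ => hs g)
  obtain ⟨N, hN⟩ := hu W r₁
  have e : r₁.ρ u = (LieKolchinLib.rep A u).restrict (hs u) :=
    LinearMap.ext fun w => Subtype.ext (hr₁ u trivial w)
  rw [e] at hN
  have hz := Module.End.eq_zero_of_isNilpotent_isSemisimple ⟨N, hN⟩
    ((hss W hW (hs u) hs).sub_of_commute (Commute.one_right _) Module.End.isSemisimple_id)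
  refine WithConv.ext (AlgHom.ext_of_adjoin_eq_top hF fun a ha => ?_)
  have h1 : LieKolchinLib.rep A u a = a :=
    congrArg Subtype.val (sub_eq_zero.1 (LinearMap.congr_fun hz (⟨a, hFW a ha⟩ : W)))
  have h2 : CoalgebraStruct.counit (R := k) (LieKolchinLib.rep A u a) = u.ofConv a := by
    have := LieKolchinLib.apply_rep (A := A) (V := A) (CoalgebraStruct.counit (R := k)) u a
    rwa [ComodLib.coeff_counit] at this
  rw [← h2, h1, AlgHom.convOne_apply]
  simp

end Same

open scoped ComodLib in
theorem isCocomm_of_semisimple (k : Type u) (A : Type v) [Field k]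
    [IsAlgClosed k] [CommRing A] [HopfAlgebra k A] [Algebra.FiniteType k A] [_root_.IsReduced A]
    (hconn : ∀ e : A, IsIdempotentElem e → e = 0 ∨ e = 1)
    (hss : ∀ (g : A →ₐ[k] k) (V : Type v) [AddCommGroup V] [Module k V] [HopfRep.Comod k A V],
      Module.Finite k V → Module.End.IsSemisimple (HopfRep.Comod.act k A V g))
    (A' : Type u) [CommRing A'] [Algebra k A'] [Algebra.FiniteType k A'] (e : A' ≃ₐ[k] A) :
    Coalgebra.IsCocomm k A := by
  letI : HopfAlgebra k A' := hopf e
  haveI : _root_.IsReduced A' := isReduced_of_injective e e.injective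
  haveI : Nontrivial A := Bialgebra.nontrivial (R := k)
  haveI : Nontrivial A' := e.toEquiv.nontrivial
  haveI : ConnectedSpace (sp k A').left :=
    ConnBC.connectedSpace_spec fun a ha => (hconn (e a) (ha.map e)).imp (fun h => e.injective (by rw [h, map_zero]))
      (fun h => e.injective (by rw [h, map_one]))
  have key : ∀ u, IsUni (k := k) (A := A') u → u = 1 := by
    intro u hu
    refine eq_one_of_isUni hu fun W hW hWu hWg => ?_
    let S : Submodule k A := W.map e.toLinearMap
    let g : A →ₐ[k] k := u.ofConv.comp e.symm.toAlgHom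
    have hrep : ∀ (w : WithConv (_ →ₐ[k] k)) x, e (LieKolchinLib.rep _ w x) =
        ComodLib.slice (w.ofConv.comp e.symm.toAlgHom).toLinearMap (CoalgebraStruct.comul (R := k) (e x)) := by
      intro w x
      show e (ComodLib.slice w.ofConv.toLinearMap (comulT e x)) = _
      obtain ⟨b, rfl⟩ := e.symm.surjective x
      rw [comulT_symm, AlgEquiv.apply_symm_apply]
      induction CoalgebraStruct.comul (R := k) b with
      | zero => simp
      | add p q hp hq => simp only [map_add, hp, hq]
      | tmul p q => simp
    have hS : HopfRep.IsSubcomod (k := k) (A := A) S := by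
      refine LieKolchinLib.isSubcomod_of_stable S fun w s hs => ?_
      obtain ⟨x, hx, rfl⟩ := hs
      refine ⟨LieKolchinLib.rep _ (toConv (w.ofConv.comp e.toAlgHom)) x, hWg _ x hx, ?_⟩
      refine (hrep _ x).trans ?_
      show ComodLib.slice _ _ = ComodLib.slice w.ofConv.toLinearMap (CoalgebraStruct.comul (R := k) (e x))
      congr 1
      exact congrArg _ (LinearMap.ext fun b => by simp)
    letI := ComodLib.subComod hS
    haveI := hW
    haveI : Module.Finite k S := Module.Finite.map W e.toLinearMap
    have hgS := hss g S inferInstance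
    let eW : W ≃ₗ[k] S := Submodule.equivMapOfInjective e.toLinearMap e.injective W
    have hconj : (LieKolchinLib.rep _ u).restrict hWu =
        eW.symm.conj (HopfRep.Comod.act k A S g) := by
      refine LinearMap.ext fun w => eW.injective (Subtype.ext ?_)
      rw [LinearEquiv.conj_apply_apply, LinearEquiv.symm_symm, LinearEquiv.apply_symm_apply]
      show e _ = _
      refine (hrep u w).trans ?_
      exact (ComodLib.subComod_smul_coe hS (toConv g.toLinearMap) (eW w)).symm
    rw [hconj]
    refine Module.End.isSemisimple_of_squarefree_aeval_eq_zero hgS.minpoly_squarefree ?_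
    have hc : eW.symm.conj (HopfRep.Comod.act k A S g) = eW.symm.conjAlgEquiv k (HopfRep.Comod.act k A S g) := rfl
    rw [hc, Polynomial.aeval_algHom_apply]
    exact (congrArg (eW.symm.conjAlgEquiv k) (minpoly.aeval k _)).trans (map_zero _)
  exact LieKolchinLib.isCocomm_of_mul_comm fun x y => by
    have h1 := mul_comm_of_no_uni key (toConv (x.ofConv.comp e.toAlgHom)) (toConv (y.ofConv.comp e.toAlgHom))
    have h2 := points_mul e (toConv (x.ofConv.comp e.toAlgHom)) (toConv (y.ofConv.comp e.toAlgHom))
    have h3 := points_mul e (toConv (y.ofConv.comp e.toAlgHom)) (toConv (x.ofConv.comp e.toAlgHom))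
    have hi : ∀ z : WithConv (A →ₐ[k] k), toConv ((z.ofConv.comp e.toAlgHom).comp e.symm.toAlgHom) = z :=
      fun z => WithConv.ext (AlgHom.ext fun b => by simp)
    simp only [hi] at h2 h3
    rw [← h2, ← h3, h1]


/-- A connected reduced affine group all of whose points are semisimple is diagonalizable. -/
theorem isDiagonalizable_main (k : Type u) (A : Type v) [Field k]
    [IsAlgClosed k] [CommRing A] [HopfAlgebra k A] [Algebra.FiniteType k A] [_root_.IsReduced A]
    (hconn : ∀ e : A, IsIdempotentElem e → e = 0 ∨ e = 1)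
    (hss : ∀ (g : A →ₐ[k] k) (V : Type v) [AddCommGroup V] [Module k V] [HopfRep.Comod k A V],
      Module.Finite k V → Module.End.IsSemisimple (HopfRep.Comod.act k A V g)) :
    HopfRep.IsDiagonalizable k A := by
  obtain ⟨n, π, hπ⟩ := Algebra.FiniteType.iff_quotient_mvPolynomial''.1 ‹Algebra.FiniteType k A›
  haveI := isCocomm_of_semisimple k A hconn hss _ (Ideal.quotientKerAlgEquivOfSurjective hπ)
  exact (Groth.Agent.S7956.result k A).2 hss

end HopfShrinkLib
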