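import Mathlib

/-!
# Transporting a commutative Hopf algebra along an algebra equivalence
-/

set_option autoImplicit false
universe u v
open scoped TensorProduct
open WithConv

namespace HopfShrinkLib

variable {k : Type u} [CommRing k] {A' : Type u} [CommRing A'] [Algebra k A'] {A : Type v} [CommRing A]
  [HopfAlgebra k A] (e : A' ≃ₐ[k] A)

local notation "ss" => Algebra.TensorProduct.map e.symm.toAlgHom e.symm.toAlgHom

/-- The transported comultiplication. -/
noncomputable def comulT : A' →ₐ[k] A' ⊗[k] A' :=
  (Algebra.TensorProduct.map e.symm.toAlgHom e.symm.toAlgHom).comp ((Bialgebra.comulAlgHom k A).comp e.toAlgHom)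

/-- The transported counit. -/
noncomputable def counitT : A' →ₐ[k] k := (Bialgebra.counitAlgHom k A).comp e.toAlgHom

theorem comulT_symm (b : A) : comulT e (e.symm b) = ss (CoalgebraStruct.comul (R := k) b) := by
  simp [comulT]

theorem counitT_symm (b : A) : counitT e (e.symm b) = CoalgebraStruct.counit (R := k) b := by
  simp [counitT]

theorem coassocT : (Algebra.TensorProduct.assoc k k k A' A' A').toAlgHom.comp
      ((Algebra.TensorProduct.map (comulT e) (.id k A')).comp (comulT e))
      = (Algebra.TensorProduct.map (.id k A') (comulT e)).comp (comulT e) := by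
  refine AlgHom.ext fun a => ?_
  obtain ⟨b, rfl⟩ := e.symm.surjective a
  simp only [AlgHom.comp_apply, comulT_symm]
  have h1 : ∀ t : A ⊗[k] A, (Algebra.TensorProduct.assoc k k k A' A' A').toAlgHom
      (Algebra.TensorProduct.map (comulT e) (.id k A') (ss t)) =
      Algebra.TensorProduct.map e.symm.toAlgHom ss
        (TensorProduct.assoc k A A A ((CoalgebraStruct.comul (R := k) (A := A)).rTensor A t)) := by
    intro t
    induction t with
    | zero => simp
    | add x y hx hy => simp only [map_add, hx, hy]
    | tmul x y =>
      simp only [Algebra.TensorProduct.map_tmul, AlgEquiv.coe_toAlgHom, comulT_symm, AlgHom.coe_id, id,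
        LinearMap.rTensor_tmul]
      induction CoalgebraStruct.comul (R := k) x with
      | zero => simp
      | add p q hp hq => simp only [map_add, TensorProduct.add_tmul, hp, hq]
      | tmul p q => simp
  have h2 : ∀ t : A ⊗[k] A, Algebra.TensorProduct.map (.id k A') (comulT e) (ss t) =
      Algebra.TensorProduct.map e.symm.toAlgHom ss
        ((CoalgebraStruct.comul (R := k) (A := A)).lTensor A t) := by
    intro t
    induction t with
    | zero => simp
    | add x y hx hy => simp only [map_add, hx, hy]
    | tmul x y => simp [comulT_symm]
  rw [h1, h2, Coalgebra.coassoc_apply]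

theorem rTensorT : (Algebra.TensorProduct.map (counitT e) (.id k A')).comp (comulT e)
      = (Algebra.TensorProduct.lid k A').symm := by
  refine AlgHom.ext fun a => ?_
  obtain ⟨b, rfl⟩ := e.symm.surjective a
  simp only [AlgHom.comp_apply, comulT_symm]
  have h1 : ∀ t : A ⊗[k] A, Algebra.TensorProduct.map (counitT e) (.id k A') (ss t) =
      e.symm.toLinearMap.lTensor k ((CoalgebraStruct.counit (R := k) (A := A)).rTensor A t) := by
    intro t
    induction t with
    | zero => simp
    | add x y hx hy => simp only [map_add, hx, hy]
    | tmul x y => simp [counitT_symm]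
  rw [h1, Coalgebra.rTensor_counit_comul]
  simp

theorem lTensorT : (Algebra.TensorProduct.map (.id k A') (counitT e)).comp (comulT e)
      = (Algebra.TensorProduct.rid k k A').symm := by
  refine AlgHom.ext fun a => ?_
  obtain ⟨b, rfl⟩ := e.symm.surjective a
  simp only [AlgHom.comp_apply, comulT_symm]
  have h1 : ∀ t : A ⊗[k] A, Algebra.TensorProduct.map (.id k A') (counitT e) (ss t) =
      e.symm.toLinearMap.rTensor k ((CoalgebraStruct.counit (R := k) (A := A)).lTensor A t) := by
    intro t
    induction t with
    | zero => simp
    | add x y hx hy => simp only [map_add, hx, hy]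
    | tmul x y => simp [counitT_symm]
  rw [h1, Coalgebra.lTensor_counit_comul]
  simp

/-- The transported Hopf algebra. -/
@[instance_reducible] noncomputable def hopf : HopfAlgebra k A' :=
  letI : Bialgebra k A' := Bialgebra.ofAlgHom (comulT e) (counitT e) (coassocT e) (rTensorT e) (lTensorT e)
  HopfAlgebra.ofAlgHom (e.symm.toAlgHom.comp ((HopfAlgebra.antipodeAlgHom k A).comp e.toAlgHom))
    (AlgHom.ext fun a => by
      obtain ⟨b, rfl⟩ := e.symm.surjective a
      show Algebra.TensorProduct.lift _ (AlgHom.id k A') (fun _ _ => Commute.all _ _) (comulT e (e.symm b)) =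
        algebraMap k A' (counitT e (e.symm b))
      rw [comulT_symm, counitT_symm, ← e.symm.commutes,
        ← HopfAlgebra.mul_antipode_rTensor_comul_apply b]
      induction CoalgebraStruct.comul (R := k) b with
      | zero => simp
      | add x y hx hy => simp only [map_add, hx, hy]
      | tmul x y => simp)
    (AlgHom.ext fun a => by
      obtain ⟨b, rfl⟩ := e.symm.surjective a
      show Algebra.TensorProduct.lift (AlgHom.id k A') _ (fun _ _ => Commute.all _ _) (comulT e (e.symm b)) =
        algebraMap k A' (counitT e (e.symm b))
      rw [comulT_symm, counitT_symm, ← e.symm.commutes,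
        ← HopfAlgebra.mul_antipode_lTensor_comul_apply b]
      induction CoalgebraStruct.comul (R := k) b with
      | zero => simp
      | add x y hx hy => simp only [map_add, hx, hy]
      | tmul x y => simp)

/-- The group of points is unchanged: precomposition with `e.symm` is multiplicative. -/
theorem points_mul (x y : WithConv (A' →ₐ[k] k)) :
    letI := hopf e
    toConv ((x * y).ofConv.comp e.symm.toAlgHom) =
      toConv (x.ofConv.comp e.symm.toAlgHom) * toConv (y.ofConv.comp e.symm.toAlgHom) := by
  letI := hopf e
  refine WithConv.ext (AlgHom.ext fun b => ?_)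
  rw [AlgHom.convMul_def, AlgHom.convMul_def]
  show Algebra.TensorProduct.lmul' k (Algebra.TensorProduct.map x.ofConv y.ofConv (comulT e (e.symm b))) =
    Algebra.TensorProduct.lmul' k (Algebra.TensorProduct.map _ _ (CoalgebraStruct.comul (R := k) b))
  rw [comulT_symm]
  induction CoalgebraStruct.comul (R := k) b with
  | zero => simp
  | add p q hp hq => simp only [map_add, hp, hq]
  | tmul p q => simp

end HopfShrinkLib
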